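import Mathlib.AlgebraicGeometry.AffineSpace
import Mathlib.AlgebraicGeometry.QuasiAffine
import Mathlib.AlgebraicGeometry.Morphisms.FiniteType

/-!
# Quasi-affine finite type schemes embed in affine space
-/

universe u

open CategoryTheory CategoryTheory.Limits AlgebraicGeometry Opposite TopologicalSpace

namespace Groth.Agent.QAffImm12

/-- A morphism closed over opens covering its image is an immersion. -/
theorem isImmersion_of_opens {X A : Scheme.{u}} (i : X ⟶ A) {ι : Type*} (W : ι → A.Opens)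
    (hcov : ⨆ j, i ⁻¹ᵁ W j = ⊤) (h : ∀ j, IsClosedImmersion (i ∣_ W j)) : IsImmersion i := by
  let U : A.Opens := ⨆ j, W j
  have htop : i ⁻¹ᵁ U = ⊤ := by
    rw [← hcov]; exact Scheme.Hom.preimage_iSup i W
  have hc : IsClosedImmersion (i ∣_ U) := by
    refine (IsZariskiLocalAtTarget.iff_of_iSup_eq_top (P := @IsClosedImmersion)
      (fun j => U.ι ⁻¹ᵁ W j) ?_).2 fun j => ?_
    · rw [← Scheme.Hom.preimage_iSup]
      exact U.ι_preimage_self
    · rw [MorphismProperty.arrow_mk_iso_iff @IsClosedImmersion (morphismRestrictRestrict i U _)]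
      have : U.ι ''ᵁ (U.ι ⁻¹ᵁ W j) = W j := by
        rw [Scheme.Hom.image_preimage_eq_opensRange_inf, Scheme.Opens.opensRange_ι,
          inf_eq_right.2 (le_iSup W j)]
      rw [MorphismProperty.arrow_mk_iso_iff @IsClosedImmersion (morphismRestrictEq i this)]
      exact h j
  have e : i = (X.topIso.inv ≫ (X.isoOfEq htop).inv) ≫ (i ∣_ U) ≫ U.ι := by
    rw [morphismRestrict_ι]; simp
  rw [e]
  infer_instance

theorem exists_immersion_affineSpace {X S : Scheme.{u}} (π : X ⟶ S)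
    [LocallyOfFiniteType π] [X.IsQuasiAffine] :
    ∃ (n : ℕ) (i : X ⟶ 𝔸(ULift.{u} (Fin n); S)), IsImmersion i ∧
      i ≫ (𝔸(ULift.{u} (Fin n); S) ↘ S) = π := by
  classical
  have hx : ∀ x : X, ∃ (V : S.Opens) (r : Γ(X, ⊤)), IsAffineOpen V ∧ IsAffineOpen (X.basicOpen r) ∧
      x ∈ X.basicOpen r ∧ X.basicOpen r ≤ π ⁻¹ᵁ V := fun x => by
    obtain ⟨V, hV, hxV, -⟩ := exists_isAffineOpen_mem_and_subset (show π x ∈ (⊤ : S.Opens) from trivial)
    obtain ⟨_, ⟨_, ⟨r, hr, rfl⟩, rfl⟩, hxr, hle⟩ := (Scheme.IsQuasiAffine.isBasis_basicOpen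
      X).exists_subset_of_mem_open (show x ∈ π ⁻¹ᵁ V from hxV) (π ⁻¹ᵁ V).2
    exact ⟨V, r, hV, hr, hxr, hle⟩
  choose V r hV hr hxr hle using hx
  obtain ⟨t, ht⟩ := isCompact_univ.elim_finite_subcover (fun x => (X.basicOpen (r x) : Set X))
    (fun x => (X.basicOpen (r x)).2) (fun x _ => Set.mem_iUnion.2 ⟨x, hxr x⟩)
  have hgen : ∀ x : X, ∃ s : Finset Γ(X, X.basicOpen (r x)), ∀ S' : Subring Γ(X, X.basicOpen (r x)),
      (∀ c, π.appLE (V x) _ (hle x) c ∈ S') → (∀ a ∈ s, a ∈ S') → S' = ⊤ := fun x => by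
    have hft := π.finiteType_appLE (hV x) (hr x) (hle x)
    let _ := (π.appLE (V x) _ (hle x)).hom.toAlgebra
    have hft' : Algebra.FiniteType Γ(S, V x) Γ(X, X.basicOpen (r x)) := hft
    obtain ⟨s, hs⟩ := hft'.out
    refine ⟨s, fun S' hc ha => top_unique fun b _ => ?_⟩
    have hb : b ∈ Algebra.adjoin Γ(S, V x) (s : Set Γ(X, X.basicOpen (r x))) := hs ▸ trivial
    exact Algebra.adjoin_induction (p := fun z _ => z ∈ S') (fun z hz => ha z hz) (fun c => hc c)
      (fun _ _ _ _ => add_mem) (fun _ _ _ _ => mul_mem) hb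
  choose s hs using hgen
  have hnum : ∀ (x : X) (b : Γ(X, X.basicOpen (r x))), ∃ (k : ℕ) (a : Γ(X, ⊤)),
      b * X.presheaf.map (homOfLE le_top).op (r x) ^ k = X.presheaf.map (homOfLE le_top).op a := fun x b => by
    have := isLocalization_basicOpen_of_qcqs (X := X) isCompact_univ isQuasiSeparated_univ (r x)
    exact IsLocalization.Away.surj (r x) b
  choose k a hka using hnum
  let ι := (x : t) × Option (s x.1)
  let e := Fintype.equivFin ι
  let v0 : ι → Γ(X, ⊤) := fun q => q.2.elim (r q.1.1) fun b => a q.1.1 b.1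
  let n := ULift.{u} (Fin (Fintype.card ι))
  let v : n → Γ(X, ⊤) := fun m => v0 (e.symm m.down)
  let i := AffineSpace.homOfVector π v
  refine ⟨_, i, ?_, AffineSpace.homOfVector_over _ _⟩
  let q := 𝔸(n; S) ↘ S
  let c : ι → Γ(𝔸(n; S), ⊤) := fun l => AffineSpace.coord S (⟨e l⟩ : n)
  have hc : ∀ l, i.appTop (c l) = v0 l := fun l => by
    simp [i, c, v]
  let W : t → 𝔸(n; S).Opens := fun x => q ⁻¹ᵁ V x.1 ⊓ 𝔸(n; S).basicOpen (c ⟨x, none⟩)
  have hW : ∀ x : t, i ⁻¹ᵁ W x = X.basicOpen (r x.1) := fun x => by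
    simp only [W, Scheme.Hom.preimage_inf, ← Scheme.Hom.comp_preimage]
    rw [AffineSpace.homOfVector_over, Scheme.preimage_basicOpen_top, hc]
    exact inf_eq_right.2 (hle x.1)
  refine isImmersion_of_opens i W ?_ fun x => ?_
  · refine top_unique fun y _ => ?_
    obtain ⟨x, hx, hy⟩ := Set.mem_iUnion₂.1 (ht (Set.mem_univ y))
    exact Opens.mem_iSup.2 ⟨⟨x, hx⟩, by rw [hW]; exact hy⟩
  have hWa : IsAffineOpen (W x) := by
    have := ((hV x.1).preimage q).basicOpen
      (𝔸(n; S).presheaf.map (homOfLE (le_top : q ⁻¹ᵁ V x.1 ≤ ⊤)).op (c ⟨x, none⟩))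
    rwa [Scheme.basicOpen_res] at this
  have hsurj : ∀ (D : X.Opens) (hD : i ⁻¹ᵁ W x = D), X.basicOpen (r x.1) = D →
      Function.Surjective (i.appLE (W x) D hD.ge) := by
    rintro D hD rfl
    let S' : Subring Γ(X, X.basicOpen (r x.1)) := (i.appLE (W x) _ hD.ge).hom.range
    have hap : ∀ z : Γ(𝔸(n; S), ⊤), i.appLE (W x) _ hD.ge (𝔸(n; S).presheaf.map (homOfLE le_top).op z) =
        X.presheaf.map (homOfLE le_top).op (i.appTop z) := fun z => by
      show (𝔸(n; S).presheaf.map _ ≫ i.appLE (W x) _ _) z = (i.appTop ≫ X.presheaf.map _) z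
      rw [Scheme.Hom.map_appLE, Scheme.Hom.appTop, Scheme.Hom.appLE]
      rfl
    have hres : ∀ z : Γ(𝔸(n; S), ⊤), X.presheaf.map (homOfLE le_top).op (i.appTop z) ∈ S' :=
      fun z => ⟨_, hap z⟩
    have hS : S' = ⊤ := by
      refine hs x.1 S' (fun z => ?_) (fun b hb => ?_)
      · refine ⟨𝔸(n; S).presheaf.map (homOfLE (inf_le_left : W x ≤ q ⁻¹ᵁ V x.1)).op (q.app _ z), ?_⟩
        show (q.app _ ≫ 𝔸(n; S).presheaf.map _ ≫ i.appLE (W x) _ _) z = _
        rw [Scheme.Hom.map_appLE, ← Scheme.Hom.appLE_eq_app, Scheme.Hom.appLE_comp_appLE]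
        congr 3
        exact AffineSpace.homOfVector_over _ _
      · have h1 := hres (c ⟨x, some ⟨b, hb⟩⟩)
        rw [hc, show v0 ⟨x, some ⟨b, hb⟩⟩ = a x.1 b from rfl, ← hka] at h1
        have hu : IsUnit (𝔸(n; S).presheaf.map (homOfLE le_top).op (c ⟨x, none⟩) : Γ(𝔸(n; S), W x)) := by
          have h := RingedSpace.isUnit_res_basicOpen _ (c ⟨x, none⟩)
          have h' := h.map (𝔸(n; S).presheaf.map (homOfLE (inf_le_right : W x ≤ _)).op).hom
          change IsUnit ((𝔸(n; S).presheaf.map _ ≫ 𝔸(n; S).presheaf.map _) (c ⟨x, none⟩)) at h'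
          erw [← CategoryTheory.Functor.map_comp] at h'
          exact h'
        obtain ⟨w, hw⟩ := hu.exists_left_inv
        have h2 : i.appLE (W x) _ hD.ge w * X.presheaf.map (homOfLE le_top).op (r x.1) = 1 := by
          have := congrArg (i.appLE (W x) _ hD.ge).hom hw
          rw [map_mul, map_one] at this
          erw [hap, hc] at this
          exact this
        have h3 : b = b * X.presheaf.map (homOfLE le_top).op (r x.1) ^ k x.1 b *
            i.appLE (W x) _ hD.ge w ^ k x.1 b := by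
          rw [mul_assoc, ← mul_pow, mul_comm (X.presheaf.map _ _), h2, one_pow, mul_one]
        rw [h3]
        exact mul_mem h1 (pow_mem (show _ ∈ S' from ⟨w, rfl⟩) _)
    intro z
    exact (show z ∈ S' from hS ▸ trivial)
  have : IsAffine (i ⁻¹ᵁ W x).toScheme := by rw [hW]; exact hr x.1
  have : IsAffine (W x).toScheme := hWa
  refine IsClosedImmersion.of_surjective_of_isAffine _ ?_
  have h := hsurj _ rfl (hW x).symm
  rw [morphismRestrict_appTop, Scheme.Hom.app_eq_appLE, Scheme.Hom.appLE_map]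
  have key : ∀ (U : 𝔸(n; S).Opens) (D : X.Opens) (h' : D ≤ i ⁻¹ᵁ U), U = W x → D = i ⁻¹ᵁ W x →
      Function.Surjective (i.appLE U D h') := fun U D h' e1 e2 => by subst e1 e2; exact h
  exact key _ _ _ (Scheme.Opens.ι_image_top _) (Scheme.Opens.ι_image_top _)

end Groth.Agent.QAffImm12
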